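import Groth.Agent.Lib.SpinNode7.Power
import Mathlib.RingTheory.LaurentSeries

/-!
# Laurent coefficients on `R[[x, y]]/(xy - r)`

`x ↦ z`, `y ↦ r / z`, computed modulo powers of `r`.
-/

set_option autoImplicit false
universe u v

open MvPowerSeries

namespace GrothLib.NodeLaurent

open SpinNode7 (d2 d2_zero d2_one eq_d2 ext2)

variable {R : Type u} [CommRing R]

/-- `R[[X, Y]]` as `R[[X]][[Y]]`. -/
noncomputable def iter (R : Type u) [CommRing R] :
    MvPowerSeries (Fin 2) R →+* PowerSeries (PowerSeries R) where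
  toFun F := PowerSeries.mk fun j => PowerSeries.mk fun i => coeff (d2 i j) F
  map_zero' := by ext j i; simp
  map_one' := by
    classical
    ext j i
    rw [PowerSeries.coeff_mk, PowerSeries.coeff_mk, MvPowerSeries.coeff_one, PowerSeries.coeff_one]
    rcases eq_or_ne j 0 with rfl | hj
    · rw [if_pos rfl, PowerSeries.coeff_one]
      refine if_congr ⟨fun h => by simpa using DFunLike.congr_fun h 0, fun h => ?_⟩ rfl rfl
      ext k; fin_cases k <;> simp [h]
    · rw [if_neg hj, map_zero, if_neg fun h => hj (by simpa using DFunLike.congr_fun h 1)]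
  map_add' F G := by ext j i; simp
  map_mul' F G := by
    classical
    ext j i
    rw [PowerSeries.coeff_mk, PowerSeries.coeff_mk, MvPowerSeries.coeff_mul, PowerSeries.coeff_mul, map_sum]
    simp only [PowerSeries.coeff_mk, PowerSeries.coeff_mul]
    rw [← Finset.sum_product']
    refine Finset.sum_nbij' (fun p => ((p.1 1, p.2 1), (p.1 0, p.2 0)))
      (fun q => (d2 q.2.1 q.1.1, d2 q.2.2 q.1.2)) ?_ ?_ ?_ ?_ ?_
    · intro p hp
      have h := Finset.HasAntidiagonal.mem_antidiagonal.1 hp
      simp only [Finset.mem_product, Finset.HasAntidiagonal.mem_antidiagonal]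
      exact ⟨by simpa using DFunLike.congr_fun h 1, by simpa using DFunLike.congr_fun h 0⟩
    · intro q hq
      simp only [Finset.mem_product, Finset.HasAntidiagonal.mem_antidiagonal] at hq
      refine Finset.HasAntidiagonal.mem_antidiagonal.2 ?_
      ext k; fin_cases k <;> simp [hq.1, hq.2]
    · intro p _; exact Prod.ext (eq_d2 _).symm (eq_d2 _).symm
    · intro q _; simp
    · intro p _; rw [← eq_d2, ← eq_d2]

theorem coeff_coeff_iter (F : MvPowerSeries (Fin 2) R) (i j : ℕ) :
    PowerSeries.coeff i (PowerSeries.coeff j (iter R F)) = coeff (d2 i j) F := by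
  simp [iter]

theorem iter_ofX (f : PowerSeries R) :
    iter R (PowerSeries.toMvPowerSeries (σ := Fin 2) 0 f) = PowerSeries.C f := by
  ext j i
  rw [coeff_coeff_iter, SpinNode7.coeff_ofX, PowerSeries.coeff_C]
  split_ifs <;> simp

theorem iter_ofY (g : PowerSeries R) :
    iter R (PowerSeries.toMvPowerSeries (σ := Fin 2) 1 g) = PowerSeries.map PowerSeries.C g := by
  ext j i
  rw [coeff_coeff_iter, SpinNode7.coeff_ofY, PowerSeries.coeff_map, PowerSeries.coeff_C]

theorem iter_X0 : iter R (X 0) = PowerSeries.C PowerSeries.X := by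
  rw [← iter_ofX, PowerSeries.toMvPowerSeries_X]

theorem iter_X1 : iter R (X 1) = PowerSeries.X := by
  rw [← PowerSeries.toMvPowerSeries_X (σ := Fin 2) (R := R) 1, iter_ofY, PowerSeries.map_X]

theorem iter_C (a : R) : iter R (C a) = PowerSeries.C (PowerSeries.C a) := by
  classical
  ext j i
  rw [coeff_coeff_iter, MvPowerSeries.coeff_C, PowerSeries.coeff_C]
  rcases eq_or_ne j 0 with rfl | hj
  · rw [if_pos rfl, PowerSeries.coeff_C]
    refine if_congr ⟨fun h => by simpa using DFunLike.congr_fun h 0, fun h => ?_⟩ rfl rfl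
    ext k; fin_cases k <;> simp [h]
  · rw [if_neg hj, map_zero, if_neg fun h => hj (by simpa using DFunLike.congr_fun h 1)]

section evNil

variable {B : Type u} [CommRing B] {T : Type v} [CommRing T] (φ : B →+* T) (e : T)

theorem eval₂_trunc_coe {N : ℕ} (he : e ^ N = 0) (P : Polynomial B) :
    (PowerSeries.trunc N (P : PowerSeries B)).eval₂ φ e = P.eval₂ φ e := by
  obtain ⟨Q, hQ⟩ : Polynomial.X ^ N ∣ P - PowerSeries.trunc N (P : PowerSeries B) := by
    rw [Polynomial.X_pow_dvd_iff]
    intro d hd
    rw [Polynomial.coeff_sub, PowerSeries.coeff_trunc, if_pos hd, Polynomial.coeff_coe, sub_self]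
  rw [eq_comm, ← sub_eq_zero, ← Polynomial.eval₂_sub, hQ, Polynomial.eval₂_mul, Polynomial.eval₂_X_pow, he, zero_mul]

/-- Evaluation of power series at a nilpotent element. -/
noncomputable def evNil (N : ℕ) (he : e ^ (N + 1) = 0) : PowerSeries B →+* T where
  toFun p := (PowerSeries.trunc (N + 1) p).eval₂ φ e
  map_zero' := by simp
  map_one' := by simp [PowerSeries.trunc_one]
  map_add' p q := by rw [map_add, Polynomial.eval₂_add]
  map_mul' p q := by
    rw [← PowerSeries.trunc_trunc_mul_trunc, ← Polynomial.coe_mul, eval₂_trunc_coe φ e he, Polynomial.eval₂_mul]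

theorem evNil_apply (N : ℕ) (he : e ^ (N + 1) = 0) (p : PowerSeries B) :
    evNil φ e N he p = ∑ j ∈ Finset.range (N + 1), φ (PowerSeries.coeff j p) * e ^ j :=
  PowerSeries.eval₂_trunc_eq_sum_range ..

end evNil

section psi

variable {Q : Type v} [CommRing Q] (h : R →+* Q) {r : R} {N : ℕ} (hN : h r ^ (N + 1) = 0)

include hN in
theorem single_pow_eq_zero : (HahnSeries.single (-1 : ℤ) (h r)) ^ (N + 1) = 0 := by
  rw [HahnSeries.single_pow, hN, map_zero]

/-- `x ↦ z`, `y ↦ r / z`. -/
noncomputable def psiAux : MvPowerSeries (Fin 2) R →+* LaurentSeries Q :=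
  (evNil ((HahnSeries.ofPowerSeries ℤ Q).comp (PowerSeries.map h)) _ N (single_pow_eq_zero h hN)).comp (iter R)

theorem psiAux_rel : psiAux h hN (X 0 * X 1 - C r) = 0 := by
  have hX : psiAux h hN (X 0) = HahnSeries.single 1 1 := by
    rw [psiAux, RingHom.comp_apply, iter_X0, evNil_apply, Finset.sum_eq_single 0 (fun j _ hj => by
      rw [PowerSeries.coeff_C, if_neg hj, map_zero, zero_mul]) (by simp)]
    simp
  have hC : psiAux h hN (C r) = HahnSeries.C (h r) := by
    rw [psiAux, RingHom.comp_apply, iter_C, evNil_apply, Finset.sum_eq_single 0 (fun j _ hj => by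
      rw [PowerSeries.coeff_C, if_neg hj, map_zero, zero_mul]) (by simp)]
    simp
  rw [map_sub, map_mul, hX, hC, psiAux, RingHom.comp_apply, iter_X1, evNil_apply]
  rcases Nat.eq_zero_or_pos N with rfl | hpos
  · rw [zero_add, pow_one] at hN
    simp [hN]
  rw [Finset.sum_eq_single 1 (fun j _ hj => by rw [PowerSeries.coeff_X, if_neg hj, map_zero, zero_mul])
    (fun h1 => absurd (Finset.mem_range.2 (by omega)) h1)]
  rw [PowerSeries.coeff_one_X, map_one ((HahnSeries.ofPowerSeries ℤ Q).comp (PowerSeries.map h)), one_mul, pow_one, HahnSeries.single_mul_single, one_mul, sub_eq_zero,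
    HahnSeries.C_apply]
  norm_num

/-- The map on `R[[x, y]]/(xy - r)`. -/
noncomputable def psi : SpinCurv.NodeRing R r →+* LaurentSeries Q :=
  Ideal.Quotient.lift _ (psiAux h hN) fun a ha => by
    obtain ⟨b, rfl⟩ := Ideal.mem_span_singleton'.1 ha
    rw [map_mul, psiAux_rel, mul_zero]

theorem coeff_psi_normalForm (f g : PowerSeries R) (k : ℤ) :
    (psi h hN (SpinCurv.NodeRing.ofX R r f + SpinCurv.NodeRing.y R r * SpinCurv.NodeRing.ofY R r g)).coeff k =
      if 0 ≤ k then h (PowerSeries.coeff k.toNat f)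
      else h (r ^ (-k).toNat * PowerSeries.coeff ((-k).toNat - 1) g) := by
  classical
  have hterm : ∀ (a : R) (j : ℕ), (HahnSeries.ofPowerSeries ℤ Q (PowerSeries.map h (PowerSeries.C a)) *
      HahnSeries.single (-1 : ℤ) (h r) ^ j).coeff k = if k = -(j : ℤ) then h (r ^ j * a) else 0 := fun a j => by
    rw [PowerSeries.map_C, HahnSeries.ofPowerSeries_C, HahnSeries.C_apply, HahnSeries.single_pow,
      HahnSeries.single_mul_single, HahnSeries.coeff_single]
    simp [map_mul, mul_comm]
  rw [SpinCurv.NodeRing.ofX, SpinCurv.NodeRing.y, SpinCurv.NodeRing.ofY, ← map_mul, ← map_add, psi,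
    Ideal.Quotient.lift_mk, psiAux, RingHom.comp_apply, map_add, map_mul, iter_ofX, iter_X1, iter_ofY,
    evNil_apply, HahnSeries.coeff_sum]
  simp only [map_add, RingHom.comp_apply, PowerSeries.coeff_C, add_mul, HahnSeries.coeff_add]
  rw [Finset.sum_add_distrib, Finset.sum_eq_single 0 (fun j _ hj => by simp [hj]) (by simp)]
  rw [if_pos rfl, pow_zero, mul_one]
  rw [Finset.sum_range_succ', PowerSeries.coeff_zero_X_mul]
  simp only [PowerSeries.coeff_succ_X_mul, PowerSeries.coeff_map, hterm]
  rw [PowerSeries.coeff_coe]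
  simp only [map_zero, zero_mul, HahnSeries.coeff_zero, add_zero]
  split_ifs with h1 h2 h2
  · omega
  · rw [zero_add, Finset.sum_eq_single ((-k).toNat - 1)]
    · rw [if_pos (by omega), show (-k).toNat - 1 + 1 = (-k).toNat by omega]
    · intro j _ hj; rw [if_neg (by omega)]
    · intro hj
      rw [Finset.mem_range, not_lt] at hj
      rw [if_pos (by omega), map_mul, map_pow, show (-k).toNat - 1 + 1 = (N + 1) + ((-k).toNat - 1 - N) by omega,
        pow_add, hN, zero_mul, zero_mul]
  · rw [Finset.sum_eq_zero, add_zero, PowerSeries.coeff_map]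
    · rw [show k.natAbs = k.toNat by omega]
    · intro j _; rw [if_neg (by omega)]
  · omega

end psi

end GrothLib.NodeLaurent
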