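import Groth.Agent.Lib.NodeLaurent.Basic
import Groth.Agent.Lib.DVRDom.Exists
import Groth.Agent.Lib.RegUFD.Basic

/-!
# Gauss's lemma for `R[[x, y]]/(xy - r)`
-/

set_option autoImplicit false
universe u v

open MvPowerSeries IsLocalRing

namespace GrothLib.NodeLaurent

variable {R : Type u} [CommRing R] [IsLocalRing R] [IsAdicComplete (maximalIdeal R) R]
  {r : R} (hr : r ∈ maximalIdeal R)

/-- The `x`-part of the normal form. -/
noncomputable def nfX (a : SpinCurv.NodeRing R r) : PowerSeries R :=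
  (SpinNode7.exists_normalForm R hr a).choose

/-- The `y`-part of the normal form. -/
noncomputable def nfY (a : SpinCurv.NodeRing R r) : PowerSeries R :=
  (SpinNode7.exists_normalForm R hr a).choose_spec.choose

theorem nf_spec (a : SpinCurv.NodeRing R r) :
    a = SpinCurv.NodeRing.ofX R r (nfX hr a) + SpinCurv.NodeRing.y R r * SpinCurv.NodeRing.ofY R r (nfY hr a) :=
  (SpinNode7.exists_normalForm R hr a).choose_spec.choose_spec

theorem nf_unique (a : SpinCurv.NodeRing R r) (f g : PowerSeries R)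
    (h : a = SpinCurv.NodeRing.ofX R r f + SpinCurv.NodeRing.y R r * SpinCurv.NodeRing.ofY R r g) :
    nfX hr a = f ∧ nfY hr a = g := by
  have h2 := nf_spec hr a
  obtain ⟨h3, h4⟩ := SpinNode7.normalForm_eq_zero R hr (nfX hr a - f) (nfY hr a - g) (by
    rw [SpinCurv.NodeRing.ofX, SpinCurv.NodeRing.ofY, map_sub, map_sub, map_sub, map_sub, mul_sub]
    linear_combination h - h2)
  exact ⟨sub_eq_zero.1 h3, sub_eq_zero.1 h4⟩

/-- The coefficient of `z ^ k` under `x ↦ z`, `y ↦ r / z`. -/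
noncomputable def lc (a : SpinCurv.NodeRing R r) (k : ℤ) : R :=
  if 0 ≤ k then PowerSeries.coeff k.toNat (nfX hr a)
  else r ^ (-k).toNat * PowerSeries.coeff ((-k).toNat - 1) (nfY hr a)

theorem lc_natCast (a : SpinCurv.NodeRing R r) (n : ℕ) : lc hr a n = PowerSeries.coeff n (nfX hr a) := by
  rw [lc, if_pos (Int.natCast_nonneg n), Int.toNat_natCast]

theorem lc_neg (a : SpinCurv.NodeRing R r) (j : ℕ) :
    lc hr a (-((j + 1 : ℕ) : ℤ)) = r ^ (j + 1) * PowerSeries.coeff j (nfY hr a) := by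
  rw [lc, if_neg (by omega), neg_neg, Int.toNat_natCast, Nat.add_sub_cancel]

theorem pow_dvd_lc (a : SpinCurv.NodeRing R r) {k : ℤ} {N : ℕ} (hk : k ≤ -(N : ℤ)) : r ^ N ∣ lc hr a k := by
  rcases Nat.eq_zero_or_pos N with rfl | hN
  · simp
  rw [lc, if_neg (by omega)]
  exact (pow_dvd_pow r (by omega)).mul_right _

theorem lc_eq_zero [IsDomain R] (hr0 : r ≠ 0) (a : SpinCurv.NodeRing R r) (h : ∀ k, lc hr a k = 0) : a = 0 := by
  have hX : nfX hr a = 0 := PowerSeries.ext fun n => by rw [← lc_natCast, h, map_zero]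
  have hY : nfY hr a = 0 := PowerSeries.ext fun n => by
    have := h (-((n + 1 : ℕ) : ℤ))
    rw [lc_neg, mul_eq_zero] at this
    rw [map_zero]; exact this.resolve_left (pow_ne_zero _ hr0)
  rw [nf_spec hr a, hX, hY, SpinCurv.NodeRing.ofX, SpinCurv.NodeRing.ofY, map_zero, map_zero, map_zero, map_zero,
    mul_zero, add_zero]

theorem lc_algebraMap (t : R) (k : ℤ) :
    lc hr (algebraMap R (SpinCurv.NodeRing R r) t) k = if k = 0 then t else 0 := by
  obtain ⟨h1, h2⟩ := nf_unique hr (algebraMap R _ t) (PowerSeries.C t) 0 (by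
    rw [SpinCurv.NodeRing.ofX, SpinCurv.NodeRing.ofY, PowerSeries.toMvPowerSeries_C, map_zero, map_zero, mul_zero,
      add_zero]; rfl)
  rw [lc, h1, h2, map_zero, mul_zero]
  split_ifs with hk hk0
  · rw [hk0]; simp
  · rw [PowerSeries.coeff_C, if_neg (by omega)]
  · omega
  · rfl

theorem lc_smul (t : R) (a : SpinCurv.NodeRing R r) (k : ℤ) :
    lc hr (algebraMap R (SpinCurv.NodeRing R r) t * a) k = t * lc hr a k := by
  obtain ⟨h1, h2⟩ := nf_unique hr (algebraMap R _ t * a) (PowerSeries.C t * nfX hr a) (PowerSeries.C t * nfY hr a) (by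
    conv_lhs => rw [nf_spec hr a]
    simp only [SpinCurv.NodeRing.ofX, SpinCurv.NodeRing.ofY, map_mul, PowerSeries.toMvPowerSeries_C,
      show Ideal.Quotient.mk _ (C t) = algebraMap R (SpinCurv.NodeRing R r) t from rfl]
    ring)
  simp only [lc, h1, h2, PowerSeries.coeff_C_mul]
  split_ifs <;> ring

section

variable {Q : Type v} [CommRing Q] (h : R →+* Q) {N : ℕ} (hN : h r ^ (N + 1) = 0)

theorem coeff_psi (a : SpinCurv.NodeRing R r) (k : ℤ) : (psi h hN a).coeff k = h (lc hr a k) := by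
  conv_lhs => rw [nf_spec hr a]
  rw [coeff_psi_normalForm, lc]
  split_ifs <;> rfl

end

/-- A divisor of all Laurent coefficients, prime to `r`, divides the element. -/
theorem exists_eq_algebraMap_mul {p : R} (hp : Prime p) (hpr : ¬ p ∣ r) (a : SpinCurv.NodeRing R r)
    (h : ∀ k, p ∣ lc hr a k) : ∃ a', a = algebraMap R (SpinCurv.NodeRing R r) p * a' := by
  have hX : ∀ n, p ∣ PowerSeries.coeff n (nfX hr a) := fun n => lc_natCast hr a n ▸ h n
  have hY : ∀ n, p ∣ PowerSeries.coeff n (nfY hr a) := fun n =>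
    (hp.dvd_or_dvd (lc_neg hr a n ▸ h _)).resolve_left fun hd => hpr (hp.dvd_of_dvd_pow hd)
  choose f hf using hX
  choose g hg using hY
  refine ⟨SpinCurv.NodeRing.ofX R r (PowerSeries.mk f) +
    SpinCurv.NodeRing.y R r * SpinCurv.NodeRing.ofY R r (PowerSeries.mk g), ?_⟩
  conv_lhs => rw [nf_spec hr a]
  rw [show nfX hr a = PowerSeries.C p * PowerSeries.mk f from PowerSeries.ext fun n => by simp [hf],
    show nfY hr a = PowerSeries.C p * PowerSeries.mk g from PowerSeries.ext fun n => by simp [hg],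
    SpinCurv.NodeRing.ofX, SpinCurv.NodeRing.ofY]
  simp only [map_mul, PowerSeries.toMvPowerSeries_C,
    show Ideal.Quotient.mk _ (C p) = algebraMap R (SpinCurv.NodeRing R r) p from rfl]
  ring

section gauss

variable {W : Type v} [CommRing W] [IsDomain W] (g : R →+* W) {π : W}

include hr in
/-- The product of the leading coefficients survives. -/
theorem exists_not_dvd_lc_mul (hπ : Prime π) (hgr : π ∣ g r) (a b : SpinCurv.NodeRing R r) {α β : ℕ}
    (ha : ∀ k, π ^ α ∣ g (lc hr a k)) (ha' : ∃ k, ¬ π ^ (α + 1) ∣ g (lc hr a k))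
    (hb : ∀ k, π ^ β ∣ g (lc hr b k)) (hb' : ∃ k, ¬ π ^ (β + 1) ∣ g (lc hr b k)) :
    ∃ k, ¬ π ^ (α + β + 1) ∣ g (lc hr (a * b) k) := by
  classical
  have hbd : ∀ (a : SpinCurv.NodeRing R r) (α : ℕ) (k : ℤ), ¬ π ^ (α + 1) ∣ g (lc hr a k) → -(α : ℤ) ≤ k := by
    intro a α k hk
    by_contra hlt
    refine hk ((pow_dvd_pow_of_dvd hgr (α + 1)).trans ?_)
    rw [← map_pow]
    exact map_dvd g (pow_dvd_lc hr a (by omega))
  obtain ⟨k₁, hk₁, hmin₁⟩ := Int.exists_least_of_bdd ⟨_, hbd a α⟩ ha'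
  obtain ⟨k₂, hk₂, hmin₂⟩ := Int.exists_least_of_bdd ⟨_, hbd b β⟩ hb'
  let q : W →+* W ⧸ Ideal.span {π ^ (α + β + 1)} := Ideal.Quotient.mk _
  have hq : ∀ w, q w = 0 ↔ π ^ (α + β + 1) ∣ w := fun w => by
    rw [Ideal.Quotient.eq_zero_iff_mem, Ideal.mem_span_singleton]
  have hN : (q.comp g) r ^ (α + β + 1) = 0 := by
    rw [RingHom.comp_apply, ← map_pow, hq]
    exact pow_dvd_pow_of_dvd hgr _
  have hne : ¬ π ^ (α + β + 1) ∣ g (lc hr a k₁) * g (lc hr b k₂) := by
    obtain ⟨c, hc⟩ := ha k₁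
    obtain ⟨d, hd⟩ := hb k₂
    intro hdvd
    rw [hc, hd, show π ^ α * c * (π ^ β * d) = π ^ (α + β) * (c * d) by ring, pow_succ,
      mul_dvd_mul_iff_left (pow_ne_zero _ hπ.ne_zero)] at hdvd
    rcases hπ.dvd_or_dvd hdvd with h | h
    · exact hk₁ (by rw [hc, pow_succ]; exact mul_dvd_mul_left _ h)
    · exact hk₂ (by rw [hd, pow_succ]; exact mul_dvd_mul_left _ h)
  refine ⟨k₁ + k₂, fun hdvd => ?_⟩
  have h0 : (psi (q.comp g) hN (a * b)).coeff (k₁ + k₂) = 0 := by
    rw [coeff_psi hr, RingHom.comp_apply, hq]; exact hdvd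
  rw [map_mul, HahnSeries.coeff_mul, Finset.sum_eq_single (k₁, k₂)] at h0
  · rw [coeff_psi hr, coeff_psi hr, RingHom.comp_apply, RingHom.comp_apply, ← map_mul, hq] at h0
    exact hne h0
  · rintro ⟨i, j⟩ hij hne'
    obtain ⟨-, -, hsum⟩ := Finset.mem_antidiagonal.1 hij
    simp only at hsum
    rw [coeff_psi hr, coeff_psi hr, RingHom.comp_apply, RingHom.comp_apply, ← map_mul, hq]
    rcases lt_trichotomy i k₁ with hi | rfl | hi
    · have : π ^ (α + 1) ∣ g (lc hr a i) := by
        by_contra hc; exact absurd (hmin₁ i hc) (by omega)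
      exact (show α + β + 1 = α + 1 + β by omega) ▸ (pow_add π (α + 1) β ▸ mul_dvd_mul this (hb j))
    · exact absurd (Prod.ext rfl (add_left_cancel hsum) : ((i, j) : ℤ × ℤ) = (i, k₂)) hne'
    · have : π ^ (β + 1) ∣ g (lc hr b j) := by
        by_contra hc; exact absurd (hmin₂ j hc) (by omega)
      exact (show α + β + 1 = α + (β + 1) by omega) ▸ (pow_add π α (β + 1) ▸ mul_dvd_mul (ha i) this)
  · intro hout
    rw [coeff_psi hr, coeff_psi hr, RingHom.comp_apply, RingHom.comp_apply, ← map_mul, hq]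
    by_contra hc
    refine hout (Finset.mem_antidiagonal.2 ⟨?_, ?_, rfl⟩)
    · rw [HahnSeries.mem_support, coeff_psi hr, RingHom.comp_apply]
      exact fun h => hc ((hq _).1 (by rw [map_mul, h, zero_mul]))
    · rw [HahnSeries.mem_support, coeff_psi hr, RingHom.comp_apply]
      exact fun h => hc ((hq _).1 (by rw [map_mul, h, mul_zero]))

theorem exists_exact_pow [WfDvdMonoid W] (hπ : Prime π) (a : SpinCurv.NodeRing R r) (ha : ∃ k, g (lc hr a k) ≠ 0) :
    ∃ α : ℕ, (∀ k, π ^ α ∣ g (lc hr a k)) ∧ ∃ k, ¬ π ^ (α + 1) ∣ g (lc hr a k) := by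
  classical
  obtain ⟨k, hk⟩ := ha
  have hex : ∃ n, ∃ k, ¬ π ^ (n + 1) ∣ g (lc hr a k) := by
    obtain ⟨n, hn⟩ := FiniteMultiplicity.of_prime_left hπ hk
    exact ⟨n, k, hn⟩
  refine ⟨Nat.find hex, fun k => ?_, Nat.find_spec hex⟩
  rcases Nat.eq_zero_or_pos (Nat.find hex) with h0 | h0
  · rw [h0, pow_zero]; exact one_dvd _
  by_contra hc
  exact Nat.find_min hex (show Nat.find hex - 1 < Nat.find hex by omega) ⟨k, by rwa [Nat.sub_add_cancel h0]⟩

end gauss

include hr in
/-- The product of elements with a non-vanishing coefficient in a domain has one, if `r` does not vanish there. -/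
theorem exists_lc_mul_ne_zero {R₀ : Type u} [CommRing R₀] [IsDomain R₀] [IsLocalRing R₀] [IsNoetherianRing R₀]
    (q : R →+* R₀) [IsLocalHom q] (hqr : q r ≠ 0) (a b : SpinCurv.NodeRing R r)
    (ha : ∃ k, q (lc hr a k) ≠ 0) (hb : ∃ k, q (lc hr b k) ≠ 0) : ∃ k, q (lc hr (a * b) k) ≠ 0 := by
  have hrm : q r ∈ maximalIdeal R₀ := map_nonunit q r hr
  have hnf : ¬ IsField R₀ := fun hf => hqr (by
    letI := hf.toField
    simpa [IsLocalRing.maximalIdeal_eq_bot] using hrm)
  obtain ⟨V, hV, hmem, hlt⟩ := GrothLib.DVRDom.exists_dvr_dominating (L := FractionRing R₀) hnf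
    (IsFractionRing.injective R₀ _) ∅ (by
      rw [Finset.coe_empty, Set.union_empty, eq_top_iff]
      intro x _
      obtain ⟨n, d, -, rfl⟩ := IsFractionRing.div_surjective (A := R₀) x
      exact div_mem (Subfield.subset_closure ⟨n, rfl⟩) (Subfield.subset_closure ⟨d, rfl⟩))
  let g : R →+* V := ((algebraMap R₀ (FractionRing R₀)).codRestrict V.toSubring hmem).comp q
  have hg : ∀ x, g x = 0 ↔ q x = 0 := fun x => by
    rw [← (IsFractionRing.injective R₀ (FractionRing R₀)).eq_iff, map_zero]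
    exact Subtype.ext_iff
  obtain ⟨π, hπ⟩ := IsDiscreteValuationRing.exists_irreducible V
  have hgr : π ∣ g r := by
    have : g r ∈ maximalIdeal V := (mem_maximalIdeal _).2 fun hu =>
      ((V.valuation_eq_one_iff _).1 hu).not_lt (hlt _ hrm)
    rwa [hπ.maximalIdeal_eq, Ideal.mem_span_singleton] at this
  simp only [ne_eq, ← hg] at ha hb ⊢
  obtain ⟨α, hα, hα'⟩ := exists_exact_pow hr g hπ.prime a ha
  obtain ⟨β, hβ, hβ'⟩ := exists_exact_pow hr g hπ.prime b hb
  obtain ⟨k, hk⟩ := exists_not_dvd_lc_mul hr g hπ.prime hgr a b hα hα' hβ hβ'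
  exact ⟨k, fun h => hk (by rw [h]; exact dvd_zero _)⟩

include hr in
/-- The ring is a domain. -/
theorem isDomain [IsDomain R] [IsNoetherianRing R] (hr0 : r ≠ 0) : IsDomain (SpinCurv.NodeRing R r) := by
  haveI : Nontrivial (SpinCurv.NodeRing R r) := ⟨0, 1, fun h => by
    have h1 := lc_algebraMap hr (1 : R) 0
    have h2 := lc_algebraMap hr (0 : R) 0
    rw [map_one] at h1
    rw [map_zero, h] at h2
    rw [h1] at h2
    simp at h2⟩
  haveI : NoZeroDivisors (SpinCurv.NodeRing R r) := ⟨fun {a b} hab => by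
    by_contra hc
    rw [not_or] at hc
    have hne : ∀ a : SpinCurv.NodeRing R r, a ≠ 0 → ∃ k, RingHom.id R (lc hr a k) ≠ 0 := fun a ha => by
      by_contra h; push Not at h; exact ha (lc_eq_zero hr hr0 a h)
    obtain ⟨k, hk⟩ := exists_lc_mul_ne_zero hr (RingHom.id R) hr0 a b (hne a hc.1) (hne b hc.2)
    refine hk ?_
    have := lc_algebraMap hr (0 : R) k
    rw [map_zero] at this
    rw [hab, this]; simp⟩
  exact NoZeroDivisors.to_isDomain _

include hr in
/-- **Gauss's lemma**. -/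
theorem dvd_lc_mul_lc [IsDomain R] [IsNoetherianRing R] [UniqueFactorizationMonoid R] (hr0 : r ≠ 0) {t : R}
    (ht : t ≠ 0) (a b : SpinCurv.NodeRing R r) (hab : a * b = algebraMap R (SpinCurv.NodeRing R r) t) (k j : ℤ) :
    t ∣ lc hr a k * lc hr b j := by
  haveI := isDomain hr hr0
  have key : ∀ p : R, Prime p → ∀ (i : ℕ) (a b : SpinCurv.NodeRing R r) (t : R), t ≠ 0 →
      a * b = algebraMap R _ t → p ^ i ∣ t → ∀ k j, p ^ i ∣ lc hr a k * lc hr b j := by
    intro p hp
    by_cases hpr : p ∣ r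
    · intro i a b t ht hab hdvd k j
      have hne : ∀ a b : SpinCurv.NodeRing R r, a * b = algebraMap R _ t → ∃ k, RingHom.id R (lc hr a k) ≠ 0 := fun a b h => by
        by_contra hc; push Not at hc
        have := lc_algebraMap hr t 0
        rw [← h, lc_eq_zero hr hr0 a hc, zero_mul, if_pos rfl] at this
        have h0 := lc_algebraMap hr (0 : R) 0
        rw [map_zero] at h0
        exact ht (by rw [← this, h0]; simp)
      obtain ⟨α, hα, hα'⟩ := exists_exact_pow hr (RingHom.id R) hp a (hne a b hab)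
      obtain ⟨β, hβ, hβ'⟩ := exists_exact_pow hr (RingHom.id R) hp b (hne b a (by rw [mul_comm, hab]))
      obtain ⟨k', hk'⟩ := exists_not_dvd_lc_mul hr (RingHom.id R) hp hpr a b hα hα' hβ hβ'
      rw [hab, lc_algebraMap, RingHom.id_apply] at hk'
      have hle : i ≤ α + β := by
        by_contra hlt
        refine hk' ?_
        split_ifs
        · exact (pow_dvd_pow p (by omega)).trans hdvd
        · exact dvd_zero _
      exact (pow_dvd_pow p hle).trans (pow_add p α β ▸ mul_dvd_mul (hα k) (hβ j))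
    · intro i
      induction i with
      | zero => intros; simp
      | succ i ih =>
        intro a b t ht hab hdvd k j
        obtain ⟨t', rfl⟩ : p ∣ t := (dvd_pow_self p i.succ_ne_zero).trans hdvd
        have hdvd' : p ^ i ∣ t' := by
          rwa [pow_succ', mul_dvd_mul_iff_left hp.ne_zero] at hdvd
        have hor : (∀ k, p ∣ lc hr a k) ∨ (∀ k, p ∣ lc hr b k) := by
          by_contra hc
          push Not at hc
          haveI : (Ideal.span {p}).IsPrime := (Ideal.span_singleton_prime hp.ne_zero).2 hp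
          haveI : IsLocalRing (R ⧸ Ideal.span {p}) := IsLocalRing.of_surjective' (Ideal.Quotient.mk _) Ideal.Quotient.mk_surjective
          haveI : IsLocalHom (Ideal.Quotient.mk (Ideal.span {p})) := IsLocalHom.of_surjective _ Ideal.Quotient.mk_surjective
          have hq : ∀ x, Ideal.Quotient.mk (Ideal.span {p}) x = 0 ↔ p ∣ x := fun x => by
            rw [Ideal.Quotient.eq_zero_iff_mem, Ideal.mem_span_singleton]
          obtain ⟨k', hk'⟩ := exists_lc_mul_ne_zero hr (Ideal.Quotient.mk (Ideal.span {p})) (mt (hq _).1 hpr) a b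
            (hc.1.imp fun _ h => mt (hq _).1 h) (hc.2.imp fun _ h => mt (hq _).1 h)
          refine hk' ((hq _).2 ?_)
          rw [hab, lc_algebraMap]
          split_ifs
          · exact dvd_mul_right _ _
          · exact dvd_zero _
        have hp0 : algebraMap R (SpinCurv.NodeRing R r) p ≠ 0 := fun h => by
          have := lc_algebraMap hr p 0
          have h0 := lc_algebraMap hr (0 : R) 0
          rw [map_zero] at h0
          rw [h, h0] at this
          exact hp.ne_zero (by simpa using this.symm)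
        have ht' : t' ≠ 0 := right_ne_zero_of_mul ht
        rcases hor with ha | hb
        · obtain ⟨a', rfl⟩ := exists_eq_algebraMap_mul hr hp hpr a ha
          rw [mul_assoc, map_mul] at hab
          rw [lc_smul, mul_assoc, pow_succ']
          exact mul_dvd_mul_left p (ih a' b t' ht' (mul_left_cancel₀ hp0 hab) hdvd' k j)
        · obtain ⟨b', rfl⟩ := exists_eq_algebraMap_mul hr hp hpr b hb
          rw [mul_left_comm, map_mul] at hab
          rw [lc_smul, mul_left_comm, pow_succ']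
          exact mul_dvd_mul_left p (ih a b' t' ht' (mul_left_cancel₀ hp0 hab) hdvd' k j)
  suffices ∀ s : R, s ∣ t → s ∣ lc hr a k * lc hr b j from this t dvd_rfl
  intro s
  induction s using UniqueFactorizationMonoid.induction_on_coprime with
  | h0 => intro h; exact absurd (zero_dvd_iff.1 h) ht
  | h1 hx => intro _; exact hx.dvd
  | hpr i hp => intro h; exact key _ hp i a b t ht hab h k j
  | hcp hxy ihx ihy =>
    intro h
    exact hxy.mul_dvd (ihx ((dvd_mul_right _ _).trans h)) (ihy ((dvd_mul_left _ _).trans h))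

include hr in
/-- Some term of the constant coefficient of `a * b` is associated to it. -/
theorem exists_isUnit_term [IsDomain R] [IsNoetherianRing R] (e : ℤ → R) {t : R} (ht : t ≠ 0)
    (a b : SpinCurv.NodeRing R r) (hab : a * b = algebraMap R (SpinCurv.NodeRing R r) t)
    (he : ∀ k, lc hr a k * lc hr b (-k) = t * e k) : ∃ n, IsUnit (e n) := by
  classical
  by_contra hc
  push Not at hc
  refine ht ?_
  have hlim : ∀ N, t ∈ maximalIdeal R ^ (N + 1) := fun N => by
    let q : R →+* R ⧸ Ideal.span {r ^ (N + 1)} := Ideal.Quotient.mk _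
    have hN : q r ^ (N + 1) = 0 := by
      rw [← map_pow, Ideal.Quotient.eq_zero_iff_mem]; exact Ideal.mem_span_singleton_self _
    have h0 : (psi q hN (a * b)).coeff 0 = q t := by rw [coeff_psi hr, hab, lc_algebraMap, if_pos rfl]
    rw [map_mul, HahnSeries.coeff_mul] at h0
    obtain ⟨S, hS⟩ : ∃ S : Finset (ℤ × ℤ), (∀ p ∈ S, p.2 = -p.1) ∧ ∑ p ∈ S, q (t * e p.1) = q t := by
      refine ⟨_, fun p hp => ?_, Eq.trans (Finset.sum_congr rfl fun p hp => ?_) h0⟩
      · have := (Finset.mem_antidiagonal.1 hp).2.2; omega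
      · rw [coeff_psi hr, coeff_psi hr, ← map_mul, ← he,
          show p.2 = -p.1 by have := (Finset.mem_antidiagonal.1 hp).2.2; omega]
    have hu : IsUnit (1 - ∑ p ∈ S, e p.1) :=
      isUnit_one_sub_self_of_mem_nonunits _ ((mem_maximalIdeal _).1 (Ideal.sum_mem _ fun p _ => hc p.1))
    have hmem : t * (1 - ∑ p ∈ S, e p.1) ∈ maximalIdeal R ^ (N + 1) := by
      refine Ideal.pow_right_mono (I := Ideal.span {r}) ((Ideal.span_singleton_le_iff_mem _).2 hr) (N + 1) ?_
      rw [Ideal.span_singleton_pow, ← Ideal.Quotient.eq_zero_iff_mem, mul_sub, mul_one, map_sub, sub_eq_zero,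
        Finset.mul_sum, map_sum]
      exact hS.2.symm
    exact (Ideal.unit_mul_mem_iff_mem _ hu).1 (mul_comm t _ ▸ hmem)
  exact IsHausdorff.haus' (I := maximalIdeal R) t fun N => by
    rw [SModEq.zero, smul_eq_mul, Ideal.mul_top]
    exact Ideal.pow_le_pow_right N.le_succ (hlim N)

end GrothLib.NodeLaurent
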