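import Groth.Agent.Lib.NodeLaurent.Unit
import Mathlib

/-!
# Primes over a prime element of the base in `R[[x, y]]/(xy - r)` and in its polynomial form
-/

set_option autoImplicit false
universe u

open IsLocalRing

namespace GrothLib.NodeLaurent

variable {R : Type u} [CommRing R] {r : R}

/-- `f(x)` in `R[x, y]/(xy - r)`. -/
noncomputable def pX (r : R) : Polynomial R →ₐ[R] SpinCurv.PolyNodeRing R r :=
  Polynomial.aeval (SpinCurv.PolyNodeRing.x R r)

/-- `g(y)` in `R[x, y]/(xy - r)`. -/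
noncomputable def pY (r : R) : Polynomial R →ₐ[R] SpinCurv.PolyNodeRing R r :=
  Polynomial.aeval (SpinCurv.PolyNodeRing.y R r)

theorem poly_x_mul_y : SpinCurv.PolyNodeRing.x R r * SpinCurv.PolyNodeRing.y R r =
    algebraMap R (SpinCurv.PolyNodeRing R r) r := by
  show _ = Ideal.Quotient.mk _ (MvPolynomial.C r)
  rw [SpinCurv.PolyNodeRing.x, SpinCurv.PolyNodeRing.y, ← map_mul, Ideal.Quotient.eq]
  exact Ideal.mem_span_singleton_self _

theorem exists_polyNormalForm (b : SpinCurv.PolyNodeRing R r) :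
    ∃ f g : Polynomial R, b = pX r f + SpinCurv.PolyNodeRing.y R r * pY r g := by
  obtain ⟨F, rfl⟩ := Ideal.Quotient.mk_surjective b
  induction F using MvPolynomial.induction_on with
  | C a => exact ⟨Polynomial.C a, 0, by simp [pX]; rfl⟩
  | add p q hp hq =>
    obtain ⟨⟨f, g, h⟩, ⟨f', g', h'⟩⟩ := And.intro hp hq
    exact ⟨f + f', g + g', by rw [map_add, h, h', map_add, map_add]; ring⟩
  | mul_X p i hp =>
    obtain ⟨f, g, h⟩ := hp
    rw [map_mul, h]
    fin_cases i
    · refine ⟨Polynomial.X * f + Polynomial.C (r * g.coeff 0), Polynomial.C r * g.divX, ?_⟩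
      conv_lhs => rw [← Polynomial.X_mul_divX_add g]
      simp only [pX, pY, map_add, map_mul, Polynomial.aeval_C, Polynomial.aeval_X]
      rw [← poly_x_mul_y]
      simp only [Fin.zero_eta]
      ring
    · refine ⟨Polynomial.C r * f.divX, Polynomial.C (f.coeff 0) + Polynomial.X * g, ?_⟩
      conv_lhs => rw [← Polynomial.X_mul_divX_add f]
      simp only [pX, pY, map_add, map_mul, Polynomial.aeval_C, Polynomial.aeval_X]
      rw [← poly_x_mul_y]
      simp only [Fin.mk_one]
      ring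

section hom

variable (ι : SpinCurv.PolyNodeRing R r →+* SpinCurv.NodeRing R r)
  (hι : ι.comp (Ideal.Quotient.mk _) =
    (Ideal.Quotient.mk _).comp (MvPolynomial.coeToMvPowerSeries.ringHom : MvPolynomial (Fin 2) R →+* MvPowerSeries (Fin 2) R))

include hι in
theorem hom_mk (F : MvPolynomial (Fin 2) R) : ι (Ideal.Quotient.mk _ F) = Ideal.Quotient.mk _ (F : MvPowerSeries (Fin 2) R) :=
  DFunLike.congr_fun hι F

include hι in
theorem hom_algebraMap (a : R) : ι (algebraMap R _ a) = algebraMap R (SpinCurv.NodeRing R r) a := by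
  show ι (Ideal.Quotient.mk _ (MvPolynomial.C a)) = Ideal.Quotient.mk _ (MvPowerSeries.C a)
  rw [hom_mk ι hι, MvPolynomial.coe_C]

include hι in
theorem hom_x : ι (SpinCurv.PolyNodeRing.x R r) = SpinCurv.NodeRing.x R r := by
  rw [SpinCurv.PolyNodeRing.x, hom_mk ι hι, MvPolynomial.coe_X]

include hι in
theorem hom_y : ι (SpinCurv.PolyNodeRing.y R r) = SpinCurv.NodeRing.y R r := by
  rw [SpinCurv.PolyNodeRing.y, hom_mk ι hι, MvPolynomial.coe_X]

include hι in
theorem hom_pX (f : Polynomial R) : ι (pX r f) = SpinCurv.NodeRing.ofX R r (f : PowerSeries R) := by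
  induction f using Polynomial.induction_on with
  | C a =>
    rw [pX, Polynomial.aeval_C, hom_algebraMap ι hι, Polynomial.coe_C, SpinCurv.NodeRing.ofX,
      PowerSeries.toMvPowerSeries_C]
    rfl
  | add p q hp hq =>
    rw [map_add, map_add, hp, hq, Polynomial.coe_add, SpinCurv.NodeRing.ofX, SpinCurv.NodeRing.ofX,
      SpinCurv.NodeRing.ofX, map_add, map_add]
  | monomial n a h =>
    rw [pow_succ, ← mul_assoc, map_mul, map_mul, h, Polynomial.coe_mul (φ := Polynomial.C a * Polynomial.X ^ n),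
      Polynomial.coe_X, SpinCurv.NodeRing.ofX, SpinCurv.NodeRing.ofX, map_mul, map_mul,
      PowerSeries.toMvPowerSeries_X, pX, Polynomial.aeval_X, hom_x ι hι]

include hι in
theorem hom_pY (f : Polynomial R) : ι (pY r f) = SpinCurv.NodeRing.ofY R r (f : PowerSeries R) := by
  induction f using Polynomial.induction_on with
  | C a =>
    rw [pY, Polynomial.aeval_C, hom_algebraMap ι hι, Polynomial.coe_C, SpinCurv.NodeRing.ofY,
      PowerSeries.toMvPowerSeries_C]
    rfl
  | add p q hp hq =>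
    rw [map_add, map_add, hp, hq, Polynomial.coe_add, SpinCurv.NodeRing.ofY, SpinCurv.NodeRing.ofY,
      SpinCurv.NodeRing.ofY, map_add, map_add]
  | monomial n a h =>
    rw [pow_succ, ← mul_assoc, map_mul, map_mul, h, Polynomial.coe_mul (φ := Polynomial.C a * Polynomial.X ^ n),
      Polynomial.coe_X, SpinCurv.NodeRing.ofY, SpinCurv.NodeRing.ofY, map_mul, map_mul,
      PowerSeries.toMvPowerSeries_X, pY, Polynomial.aeval_X, hom_y ι hι]

variable [IsLocalRing R] [IsAdicComplete (maximalIdeal R) R] (hr : r ∈ maximalIdeal R)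

include hι in
theorem nf_hom (f g : Polynomial R) :
    nfX hr (ι (pX r f + SpinCurv.PolyNodeRing.y R r * pY r g)) = (f : PowerSeries R) ∧
      nfY hr (ι (pX r f + SpinCurv.PolyNodeRing.y R r * pY r g)) = (g : PowerSeries R) := by
  refine nf_unique hr _ _ _ ?_
  rw [map_add, map_mul, hom_pX ι hι, hom_y ι hι, hom_pY ι hι]

include hr hι in
theorem hom_injective : Function.Injective ι := by
  rw [injective_iff_map_eq_zero]
  intro b hb
  obtain ⟨f, g, rfl⟩ := exists_polyNormalForm b
  obtain ⟨h1, h2⟩ := nf_hom ι hι hr f g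
  obtain ⟨h3, h4⟩ := nf_unique hr (0 : SpinCurv.NodeRing R r) 0 0
    (by rw [SpinCurv.NodeRing.ofX, SpinCurv.NodeRing.ofY, map_zero, map_zero, map_zero, map_zero, mul_zero, add_zero])
  rw [hb, h3] at h1
  rw [hb, h4] at h2
  rw [Polynomial.coe_eq_zero_iff.1 h1.symm, Polynomial.coe_eq_zero_iff.1 h2.symm, map_zero, map_zero, mul_zero,
    add_zero]

include hr hι in
/-- `ι⁻¹ (π A) = π B` for `π ∤ r`. -/
theorem comap_span_le {π : R} (hπ : Prime π) (hπr : ¬ π ∣ r) :
    (Ideal.span {algebraMap R (SpinCurv.NodeRing R r) π}).comap ι ≤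
      Ideal.span {algebraMap R (SpinCurv.PolyNodeRing R r) π} := by
  intro b hb
  obtain ⟨f, g, rfl⟩ := exists_polyNormalForm b
  obtain ⟨h1, h2⟩ := nf_hom ι hι hr f g
  obtain ⟨c, hc⟩ := Ideal.mem_span_singleton.1 (Ideal.mem_comap.1 hb)
  have hl : ∀ k, π ∣ lc hr (ι (pX r f + SpinCurv.PolyNodeRing.y R r * pY r g)) k := fun k => by
    rw [hc, lc_smul]; exact dvd_mul_right _ _
  obtain ⟨f', rfl⟩ := (Polynomial.C_dvd_iff_dvd_coeff π f).2 fun n => by
    have := hl (n : ℤ); rwa [lc_natCast, h1, Polynomial.coeff_coe] at this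
  obtain ⟨g', rfl⟩ := (Polynomial.C_dvd_iff_dvd_coeff π g).2 fun n => by
    have := hl (-((n + 1 : ℕ) : ℤ)); rw [lc_neg, h2, Polynomial.coeff_coe] at this
    exact (hπ.dvd_or_dvd this).resolve_left fun hd => hπr (hπ.dvd_of_dvd_pow hd)
  refine Ideal.mem_span_singleton.2 ⟨pX r f' + SpinCurv.PolyNodeRing.y R r * pY r g', ?_⟩
  simp only [pX, pY, map_mul, Polynomial.aeval_C]
  ring

end hom

section branch

variable [IsLocalRing R] [IsAdicComplete (maximalIdeal R) R] (hr : r ∈ maximalIdeal R)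
  {Q : Type u} [CommRing Q] (q : R →+* Q) (hq : q r = 0)

/-- Restriction to the branch `x = 0`. -/
noncomputable def branchY : SpinCurv.NodeRing R r →+* PowerSeries Q :=
  Ideal.Quotient.lift _ ((PowerSeries.map q).comp ((PowerSeries.map PowerSeries.constantCoeff).comp (iter R)))
    fun a ha => by
      obtain ⟨b, rfl⟩ := Ideal.mem_span_singleton'.1 ha
      simp [iter_X0, iter_C, hq]

/-- Restriction to the branch `y = 0`. -/
noncomputable def branchX : SpinCurv.NodeRing R r →+* PowerSeries Q :=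
  Ideal.Quotient.lift _ ((PowerSeries.map q).comp (PowerSeries.constantCoeff.comp (iter R)))
    fun a ha => by
      obtain ⟨b, rfl⟩ := Ideal.mem_span_singleton'.1 ha
      simp [iter_X1, iter_C, hq]

theorem branchY_x : branchY q hq (SpinCurv.NodeRing.x R r) = 0 := by
  simp [branchY, SpinCurv.NodeRing.x, iter_X0]

theorem branchY_y : branchY q hq (SpinCurv.NodeRing.y R r) = PowerSeries.X := by
  simp [branchY, SpinCurv.NodeRing.y, iter_X1]

theorem branchX_x : branchX q hq (SpinCurv.NodeRing.x R r) = PowerSeries.X := by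
  simp [branchX, SpinCurv.NodeRing.x, iter_X0]

theorem branchX_y : branchX q hq (SpinCurv.NodeRing.y R r) = 0 := by
  simp [branchX, SpinCurv.NodeRing.y, iter_X1]

theorem branchY_nf (a : SpinCurv.NodeRing R r) :
    branchY q hq a = PowerSeries.C (q (PowerSeries.coeff 0 (nfX hr a))) +
      PowerSeries.X * PowerSeries.map q (nfY hr a) := by
  conv_lhs => rw [nf_spec hr a]
  have h1 : branchY q hq (SpinCurv.NodeRing.ofX R r (nfX hr a)) =
      PowerSeries.C (q (PowerSeries.coeff 0 (nfX hr a))) := by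
    simp [branchY, SpinCurv.NodeRing.ofX, iter_ofX]
  have h2 : branchY q hq (SpinCurv.NodeRing.ofY R r (nfY hr a)) = PowerSeries.map q (nfY hr a) := by
    ext n
    simp [branchY, SpinCurv.NodeRing.ofY, iter_ofY]
  rw [map_add, map_mul, branchY_y, h1, h2]

theorem branchX_nf (a : SpinCurv.NodeRing R r) : branchX q hq a = PowerSeries.map q (nfX hr a) := by
  conv_lhs => rw [nf_spec hr a]
  rw [map_add, map_mul, branchX_y, zero_mul, add_zero]
  simp [branchX, SpinCurv.NodeRing.ofX, iter_ofX]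

end branch

section kernels

variable [IsLocalRing R] [IsAdicComplete (maximalIdeal R) R] (hr : r ∈ maximalIdeal R) {π : R} (hπr : π ∣ r)

omit [IsLocalRing R] [IsAdicComplete (maximalIdeal R) R] in
include hπr in
theorem quot_zero : Ideal.Quotient.mk (Ideal.span {π}) r = 0 :=
  Ideal.Quotient.eq_zero_iff_mem.2 (Ideal.mem_span_singleton.2 hπr)

include hr in
theorem ker_branchY :
    RingHom.ker (branchY (r := r) (Ideal.Quotient.mk (Ideal.span {π})) (quot_zero hπr)) =
      Ideal.span {algebraMap R (SpinCurv.NodeRing R r) π, SpinCurv.NodeRing.x R r} := by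
  have hπ0 : Ideal.Quotient.mk (Ideal.span {π}) π = 0 :=
    Ideal.Quotient.eq_zero_iff_mem.2 (Ideal.mem_span_singleton_self π)
  refine le_antisymm (fun a ha => ?_) (Ideal.span_le.2 ?_)
  · rw [RingHom.mem_ker, branchY_nf hr] at ha
    have hdvd : ∀ c, Ideal.Quotient.mk (Ideal.span {π}) c = 0 → π ∣ c := fun c hc =>
      Ideal.mem_span_singleton.1 (Ideal.Quotient.eq_zero_iff_mem.1 hc)
    obtain ⟨c₀, hc₀⟩ := hdvd (PowerSeries.coeff 0 (nfX hr a)) (by
      simpa using congrArg (PowerSeries.coeff 0) ha)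
    choose g hg using fun n => hdvd (PowerSeries.coeff n (nfY hr a)) (by
      have := congrArg (PowerSeries.coeff (n + 1)) ha
      simpa [PowerSeries.coeff_C] using this)
    rw [nf_spec hr a, (nfX hr a).eq_X_mul_shift_add_const, ← PowerSeries.coeff_zero_eq_constantCoeff_apply, hc₀,
      show nfY hr a = PowerSeries.C π * PowerSeries.mk g from PowerSeries.ext fun n => by simp [hg],
      Ideal.mem_span_pair]
    refine ⟨algebraMap R _ c₀ + SpinCurv.NodeRing.y R r * SpinCurv.NodeRing.ofY R r (PowerSeries.mk g),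
      SpinCurv.NodeRing.ofX R r (PowerSeries.mk fun p => PowerSeries.coeff (p + 1) (nfX hr a)), ?_⟩
    simp only [SpinCurv.NodeRing.ofX, SpinCurv.NodeRing.ofY, map_add, map_mul, PowerSeries.toMvPowerSeries_C,
      PowerSeries.toMvPowerSeries_X]
    show _ = _ + (Ideal.Quotient.mk _ (MvPowerSeries.C π)) * Ideal.Quotient.mk _ (MvPowerSeries.C c₀) +
      _ * (Ideal.Quotient.mk _ (MvPowerSeries.C π) * _)
    rw [show Ideal.Quotient.mk _ (MvPowerSeries.C π) = algebraMap R (SpinCurv.NodeRing R r) π from rfl,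
      show Ideal.Quotient.mk _ (MvPowerSeries.C c₀) = algebraMap R (SpinCurv.NodeRing R r) c₀ from rfl]
    ring
  · rintro _ (rfl | rfl)
    · show branchY _ _ (Ideal.Quotient.mk _ (MvPowerSeries.C π)) = 0
      simp [branchY, iter_C, hπ0]
    · exact branchY_x _ _

include hr in
theorem ker_branchX :
    RingHom.ker (branchX (r := r) (Ideal.Quotient.mk (Ideal.span {π})) (quot_zero hπr)) =
      Ideal.span {algebraMap R (SpinCurv.NodeRing R r) π, SpinCurv.NodeRing.y R r} := by
  have hπ0 : Ideal.Quotient.mk (Ideal.span {π}) π = 0 :=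
    Ideal.Quotient.eq_zero_iff_mem.2 (Ideal.mem_span_singleton_self π)
  refine le_antisymm (fun a ha => ?_) (Ideal.span_le.2 ?_)
  · rw [RingHom.mem_ker, branchX_nf hr] at ha
    choose f hf using fun n => Ideal.mem_span_singleton.1 (Ideal.Quotient.eq_zero_iff_mem.1
      (show Ideal.Quotient.mk (Ideal.span {π}) (PowerSeries.coeff n (nfX hr a)) = 0 by
        simpa using congrArg (PowerSeries.coeff n) ha))
    rw [nf_spec hr a, show nfX hr a = PowerSeries.C π * PowerSeries.mk f from PowerSeries.ext fun n => by simp [hf],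
      Ideal.mem_span_pair]
    refine ⟨SpinCurv.NodeRing.ofX R r (PowerSeries.mk f), SpinCurv.NodeRing.ofY R r (nfY hr a), ?_⟩
    simp only [SpinCurv.NodeRing.ofX, SpinCurv.NodeRing.ofY, map_mul, PowerSeries.toMvPowerSeries_C,
      show Ideal.Quotient.mk _ (MvPowerSeries.C π) = algebraMap R (SpinCurv.NodeRing R r) π from rfl]
    ring
  · rintro _ (rfl | rfl)
    · show branchX _ _ (Ideal.Quotient.mk _ (MvPowerSeries.C π)) = 0
      simp [branchX, iter_C, hπ0]
    · exact branchX_y _ _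

variable (ι : SpinCurv.PolyNodeRing R r →+* SpinCurv.NodeRing R r)
  (hι : ι.comp (Ideal.Quotient.mk _) =
    (Ideal.Quotient.mk _).comp (MvPolynomial.coeToMvPowerSeries.ringHom : MvPolynomial (Fin 2) R →+* MvPowerSeries (Fin 2) R))

include hr hι hπr in
theorem comap_spanX_le :
    (Ideal.span {algebraMap R (SpinCurv.NodeRing R r) π, SpinCurv.NodeRing.x R r}).comap ι ≤
      Ideal.span {algebraMap R (SpinCurv.PolyNodeRing R r) π, SpinCurv.PolyNodeRing.x R r} := by
  intro b hb
  obtain ⟨f, g, rfl⟩ := exists_polyNormalForm b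
  obtain ⟨h1, h2⟩ := nf_hom ι hι hr f g
  rw [Ideal.mem_comap, ← ker_branchY hr hπr, RingHom.mem_ker, branchY_nf hr, h1, h2] at hb
  have hdvd : ∀ c, Ideal.Quotient.mk (Ideal.span {π}) c = 0 → π ∣ c := fun c hc =>
    Ideal.mem_span_singleton.1 (Ideal.Quotient.eq_zero_iff_mem.1 hc)
  obtain ⟨c₀, hc₀⟩ := hdvd (f.coeff 0) (by
    have := congrArg (PowerSeries.coeff 0) hb
    simpa [Polynomial.coeff_coe] using this)
  obtain ⟨g', rfl⟩ := (Polynomial.C_dvd_iff_dvd_coeff π g).2 fun n => hdvd _ (by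
    have := congrArg (PowerSeries.coeff (n + 1)) hb
    simpa [PowerSeries.coeff_C, Polynomial.coeff_coe] using this)
  rw [← Polynomial.X_mul_divX_add f, hc₀, Ideal.mem_span_pair]
  refine ⟨algebraMap R _ c₀ + SpinCurv.PolyNodeRing.y R r * pY r g', pX r f.divX, ?_⟩
  simp only [pX, pY, map_add, map_mul, Polynomial.aeval_C, Polynomial.aeval_X]
  ring

include hr hι hπr in
theorem comap_spanY_le :
    (Ideal.span {algebraMap R (SpinCurv.NodeRing R r) π, SpinCurv.NodeRing.y R r}).comap ι ≤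
      Ideal.span {algebraMap R (SpinCurv.PolyNodeRing R r) π, SpinCurv.PolyNodeRing.y R r} := by
  intro b hb
  obtain ⟨f, g, rfl⟩ := exists_polyNormalForm b
  obtain ⟨h1, -⟩ := nf_hom ι hι hr f g
  rw [Ideal.mem_comap, ← ker_branchX hr hπr, RingHom.mem_ker, branchX_nf hr, h1] at hb
  obtain ⟨f', rfl⟩ := (Polynomial.C_dvd_iff_dvd_coeff π f).2 fun n =>
    Ideal.mem_span_singleton.1 (Ideal.Quotient.eq_zero_iff_mem.1 (by
      simpa [Polynomial.coeff_coe] using congrArg (PowerSeries.coeff n) hb))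
  rw [Ideal.mem_span_pair]
  refine ⟨pX r f', pY r g, ?_⟩
  simp only [pX, pY, map_mul, Polynomial.aeval_C]
  ring

end kernels

section prime

variable [IsLocalRing R] [IsAdicComplete (maximalIdeal R) R] (hr : r ∈ maximalIdeal R)
variable [IsDomain R] [IsNoetherianRing R]

include hr in
theorem isPrime_span {π : R} (hπ : Prime π) (hπr : ¬ π ∣ r) :
    (Ideal.span {algebraMap R (SpinCurv.NodeRing R r) π}).IsPrime := by
  haveI : (Ideal.span {π}).IsPrime := (Ideal.span_singleton_prime hπ.ne_zero).2 hπ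
  haveI : IsLocalRing (R ⧸ Ideal.span {π}) := IsLocalRing.of_surjective' (Ideal.Quotient.mk _) Ideal.Quotient.mk_surjective
  haveI : IsLocalHom (Ideal.Quotient.mk (Ideal.span {π})) := IsLocalHom.of_surjective _ Ideal.Quotient.mk_surjective
  have hq : ∀ x, Ideal.Quotient.mk (Ideal.span {π}) x = 0 ↔ π ∣ x := fun x => by
    rw [Ideal.Quotient.eq_zero_iff_mem, Ideal.mem_span_singleton]
  refine ⟨fun htop => ?_, fun {a b} hab => ?_⟩
  · obtain ⟨c, hc⟩ := Ideal.mem_span_singleton.1 (htop ▸ Submodule.mem_top (x := (1 : SpinCurv.NodeRing R r)))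
    have h1 := lc_algebraMap hr (1 : R) 0
    rw [map_one, hc, lc_smul, if_pos rfl] at h1
    exact hπ.not_unit (IsUnit.of_mul_eq_one _ h1)
  obtain ⟨c, hc⟩ := Ideal.mem_span_singleton.1 hab
  by_contra hne
  rw [not_or] at hne
  have hne' : ∀ a : SpinCurv.NodeRing R r, a ∉ Ideal.span {algebraMap R (SpinCurv.NodeRing R r) π} →
      ∃ k, Ideal.Quotient.mk (Ideal.span {π}) (lc hr a k) ≠ 0 := fun a ha => by
    by_contra hk
    push Not at hk
    obtain ⟨a', ha'⟩ := exists_eq_algebraMap_mul hr hπ hπr a fun k => (hq _).1 (hk k)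
    exact ha (Ideal.mem_span_singleton.2 ⟨a', ha'⟩)
  obtain ⟨k, hk⟩ := exists_lc_mul_ne_zero hr (Ideal.Quotient.mk (Ideal.span {π})) (mt (hq _).1 hπr) a b
    (hne' a hne.1) (hne' b hne.2)
  exact hk ((hq _).2 (by rw [hc, lc_smul]; exact dvd_mul_right _ _))

end prime

end GrothLib.NodeLaurent

namespace GrothLib.NodeLaurent

/-- A non-zero prime inside a prime of height one equals it. -/
theorem eq_of_le_of_height_eq_one {Z : Type u} [CommRing Z] [IsDomain Z] {J q : Ideal Z} (hJ : J.IsPrime)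
    (hq : q.IsPrime) (hle : ∀ x, x ∈ J → x ∈ q) (hht : q.height = 1) {z : Z} (hz : z ≠ 0) (hzJ : z ∈ J) : J = q := by
  rcases eq_or_lt_of_le (show J ≤ q from hle) with h | hlt
  · exact h
  haveI : J.FiniteHeight := ⟨Or.inr fun htop => by
    have h3 := Ideal.height_mono hlt.le
    rw [hht, htop] at h3
    exact absurd h3 (by decide)⟩
  have h2 := Ideal.height_strict_mono_of_isPrime hlt
  rw [hht, Order.lt_one_iff, Ideal.height_eq_zero_iff_eq_bot] at h2
  exact absurd (Ideal.mem_bot.1 (h2 ▸ hzJ)) hz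

end GrothLib.NodeLaurent
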