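import Groth.Agent.Lib.NodeLaurent.Gauss

/-!
# Units of the generic fibre of `R[[x, y]]/(xy - r)`
-/

set_option autoImplicit false
universe u

open MvPowerSeries IsLocalRing

namespace GrothLib.NodeLaurent

variable {R : Type u} [CommRing R]

/-- The exchange of `x` and `y`. -/
noncomputable def swap (r : R) : SpinCurv.NodeRing R r →+* SpinCurv.NodeRing R r :=
  Ideal.Quotient.lift _ ((Ideal.Quotient.mk _).comp
      (renameEquiv R (Equiv.swap (0 : Fin 2) 1)).toAlgHom.toRingHom) fun a ha => by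
    obtain ⟨b, rfl⟩ := Ideal.mem_span_singleton'.1 ha
    rw [RingHom.comp_apply, map_mul, map_mul]
    refine mul_eq_zero_of_right _ (Ideal.Quotient.eq_zero_iff_mem.2 ?_)
    show rename (Equiv.swap (0 : Fin 2) 1) (X 0 * X 1 - C r : MvPowerSeries (Fin 2) R) ∈ _
    rw [map_sub, map_mul, rename_X, rename_X, rename_C, Equiv.swap_apply_left, Equiv.swap_apply_right, mul_comm]
    exact Ideal.mem_span_singleton_self _

variable {r : R}

theorem swap_mk (F : MvPowerSeries (Fin 2) R) :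
    swap r (Ideal.Quotient.mk _ F) = Ideal.Quotient.mk _ (rename (Equiv.swap (0 : Fin 2) 1) F) := rfl

theorem swap_x : swap r (SpinCurv.NodeRing.x R r) = SpinCurv.NodeRing.y R r := by
  rw [SpinCurv.NodeRing.x, swap_mk, rename_X, Equiv.swap_apply_left]

theorem swap_y : swap r (SpinCurv.NodeRing.y R r) = SpinCurv.NodeRing.x R r := by
  rw [SpinCurv.NodeRing.y, swap_mk, rename_X, Equiv.swap_apply_right]

theorem swap_ofX (f : PowerSeries R) : swap r (SpinCurv.NodeRing.ofX R r f) = SpinCurv.NodeRing.ofY R r f := by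
  rw [SpinCurv.NodeRing.ofX, swap_mk, PowerSeries.toMvPowerSeries_apply, rename_rename,
    SpinCurv.NodeRing.ofY, PowerSeries.toMvPowerSeries_apply]
  congr 2

theorem swap_ofY (f : PowerSeries R) : swap r (SpinCurv.NodeRing.ofY R r f) = SpinCurv.NodeRing.ofX R r f := by
  rw [SpinCurv.NodeRing.ofY, swap_mk, PowerSeries.toMvPowerSeries_apply, rename_rename,
    SpinCurv.NodeRing.ofX, PowerSeries.toMvPowerSeries_apply]
  congr 2

theorem swap_algebraMap (t : R) :
    swap r (algebraMap R (SpinCurv.NodeRing R r) t) = algebraMap R (SpinCurv.NodeRing R r) t := by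
  show swap r (Ideal.Quotient.mk _ (C t)) = Ideal.Quotient.mk _ (C t)
  rw [swap_mk, rename_C]

theorem x_mul_y : SpinCurv.NodeRing.x R r * SpinCurv.NodeRing.y R r = algebraMap R (SpinCurv.NodeRing R r) r := by
  show _ = Ideal.Quotient.mk _ (C r)
  rw [SpinCurv.NodeRing.x, SpinCurv.NodeRing.y, ← map_mul, Ideal.Quotient.eq]
  exact Ideal.mem_span_singleton_self _

variable [IsLocalRing R] [IsAdicComplete (maximalIdeal R) R] (hr : r ∈ maximalIdeal R)

include hr in
theorem swap_swap (a : SpinCurv.NodeRing R r) : swap r (swap r a) = a := by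
  rw [nf_spec hr a, map_add, map_mul, swap_ofX, swap_y, swap_ofY, map_add, map_mul, swap_ofY, swap_x, swap_ofX]

theorem nf_swap (a : SpinCurv.NodeRing R r) :
    nfX hr (swap r a) = PowerSeries.C (PowerSeries.constantCoeff (nfX hr a)) + PowerSeries.X * nfY hr a ∧
      nfY hr (swap r a) = PowerSeries.mk fun p => PowerSeries.coeff (p + 1) (nfX hr a) := by
  refine nf_unique hr _ _ _ ?_
  conv_lhs => rw [nf_spec hr a, map_add, map_mul, swap_ofX, swap_y, swap_ofY,
    (nfX hr a).eq_X_mul_shift_add_const]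
  simp only [SpinCurv.NodeRing.ofX, SpinCurv.NodeRing.ofY, map_add, map_mul, PowerSeries.toMvPowerSeries_C,
    PowerSeries.toMvPowerSeries_X]
  ring

theorem lc_swap_neg (a : SpinCurv.NodeRing R r) (k : ℕ) :
    lc hr (swap r a) (-(k : ℤ)) = r ^ k * PowerSeries.coeff k (nfX hr a) := by
  rcases k with _ | k
  · rw [Nat.cast_zero, neg_zero, ← Nat.cast_zero, lc_natCast, (nf_swap hr a).1, map_add]
    simp
  · rw [lc_neg, (nf_swap hr a).2, PowerSeries.coeff_mk]

theorem lc_swap_succ (a : SpinCurv.NodeRing R r) (j : ℕ) :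
    lc hr (swap r a) ((j + 1 : ℕ) : ℤ) = PowerSeries.coeff j (nfY hr a) := by
  rw [lc_natCast, (nf_swap hr a).1, map_add, PowerSeries.coeff_C, if_neg j.succ_ne_zero, zero_add,
    PowerSeries.coeff_succ_X_mul]

/-- The terms of the constant coefficient do not change under the exchange. -/
theorem lc_swap_mul_lc_swap (a b : SpinCurv.NodeRing R r) (k : ℤ) :
    lc hr (swap r a) (-k) * lc hr (swap r b) k = lc hr a k * lc hr b (-k) := by
  have h0 : ∀ a : SpinCurv.NodeRing R r, lc hr (swap r a) 0 = lc hr a 0 := fun a => by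
    have h1 := lc_swap_neg hr a 0
    simp only [Nat.cast_zero, neg_zero, pow_zero, one_mul] at h1
    rw [h1, ← lc_natCast, Nat.cast_zero]
  rcases lt_trichotomy k 0 with hk | rfl | hk
  · obtain ⟨j, rfl⟩ : ∃ j : ℕ, k = -((j + 1 : ℕ) : ℤ) := ⟨(-k).toNat - 1, by omega⟩
    rw [lc_swap_neg, neg_neg, lc_neg, lc_swap_succ, lc_natCast]
    ring
  · rw [neg_zero, h0, h0]
  · obtain ⟨j, rfl⟩ : ∃ j : ℕ, k = ((j + 1 : ℕ) : ℤ) := ⟨k.toNat - 1, by omega⟩
    rw [lc_swap_neg, lc_swap_succ, lc_natCast, lc_neg]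
    ring

variable [IsDomain R]

include hr in
theorem eq_of_dvd (hr0 : r ≠ 0) (a : SpinCurv.NodeRing R r) (n : ℕ) (hne : lc hr a n ≠ 0)
    (h₁ : ∀ k, lc hr a n ∣ lc hr a k) (h₂ : ∀ k, lc hr (swap r a) (-(n : ℤ)) ∣ lc hr (swap r a) k) :
    ∃ u : (SpinCurv.NodeRing R r)ˣ,
      a = algebraMap R (SpinCurv.NodeRing R r) (lc hr a n) * SpinCurv.NodeRing.x R r ^ n * u := by
  classical
  have hsf : lc hr a n = PowerSeries.coeff n (nfX hr a) := lc_natCast hr a n
  generalize lc hr a n = s at hne h₁ hsf ⊢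
  have hhigh : ∀ i, ∃ c, PowerSeries.coeff (i + n) (nfX hr a) = s * c := fun i => by
    have := h₁ ((i + n : ℕ) : ℤ); rwa [lc_natCast] at this
  have hlow : ∀ k < n, ∃ c, PowerSeries.coeff k (nfX hr a) = s * r ^ (n - k) * c := fun k hk => by
    have := h₂ (-(k : ℤ))
    rw [lc_swap_neg, lc_swap_neg, ← hsf, show r ^ n = r ^ k * r ^ (n - k) by rw [← pow_add]; congr 1; omega,
      mul_assoc, mul_dvd_mul_iff_left (pow_ne_zero _ hr0)] at this
    obtain ⟨c, hc⟩ := this
    exact ⟨c, by rw [hc]; ring⟩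
  have hy : ∀ j, ∃ c, PowerSeries.coeff j (nfY hr a) = s * r ^ n * c := fun j => by
    have := h₂ ((j + 1 : ℕ) : ℤ)
    rw [lc_swap_neg, lc_swap_succ, ← hsf] at this
    obtain ⟨c, hc⟩ := this
    exact ⟨c, by rw [hc]; ring⟩
  choose c hc using hhigh
  choose! d hd using hlow
  choose e he using hy
  have hc0 : c 0 = 1 := by
    have := hc 0
    rw [Nat.zero_add, ← hsf] at this
    exact (mul_eq_left₀ hne).1 this.symm
  let U : MvPowerSeries (Fin 2) R := PowerSeries.toMvPowerSeries 0 (PowerSeries.mk c) +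
    ∑ k ∈ Finset.range n, C (d k) * X 1 ^ (n - k) + X 1 ^ (n + 1) * PowerSeries.toMvPowerSeries 1 (PowerSeries.mk e)
  have hU : IsUnit U := by
    rw [MvPowerSeries.isUnit_iff_constantCoeff]
    have h1 : constantCoeff (PowerSeries.toMvPowerSeries (σ := Fin 2) 0 (PowerSeries.mk c)) = 1 := by
      have h := SpinNode7.coeff_ofX (PowerSeries.mk c) 0 0
      rw [if_pos rfl, PowerSeries.coeff_mk, hc0, show SpinNode7.d2 0 0 = (0 : Fin 2 →₀ ℕ) by simp [SpinNode7.d2]] at h
      rwa [coeff_zero_eq_constantCoeff_apply] at h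
    rw [map_add, map_add, map_sum, h1, Finset.sum_eq_zero (fun k hk => by
      rw [map_mul, map_pow, constantCoeff_X, zero_pow (by have := Finset.mem_range.1 hk; omega), mul_zero]),
      map_mul, map_pow, constantCoeff_X, zero_pow n.succ_ne_zero, zero_mul, add_zero, add_zero]
    exact isUnit_one
  refine ⟨(hU.map (Ideal.Quotient.mk _)).unit, ?_⟩
  rw [IsUnit.unit_spec]
  have hX : nfX hr a = PowerSeries.C s * (PowerSeries.X ^ n * PowerSeries.mk c) +
      ∑ k ∈ Finset.range n, PowerSeries.C (s * r ^ (n - k) * d k) * PowerSeries.X ^ k := by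
    ext m
    rw [map_add, map_sum, PowerSeries.coeff_C_mul, PowerSeries.coeff_X_pow_mul']
    simp only [PowerSeries.coeff_C_mul_X_pow]
    rcases lt_or_ge m n with hm | hm
    · rw [if_neg (by omega), mul_zero, zero_add, Finset.sum_ite_eq (Finset.range n) m,
        if_pos (Finset.mem_range.2 hm), hd m hm]
    · rw [if_pos hm, PowerSeries.coeff_mk, Finset.sum_eq_zero (fun k hk => if_neg (by
        have := Finset.mem_range.1 hk; omega)), add_zero, ← hc, Nat.sub_add_cancel hm]
  have hY : nfY hr a = PowerSeries.C (s * r ^ n) * PowerSeries.mk e :=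
    PowerSeries.ext fun j => by rw [PowerSeries.coeff_C_mul, PowerSeries.coeff_mk, he]
  have hC : ∀ t : R, Ideal.Quotient.mk _ (C t) = algebraMap R (SpinCurv.NodeRing R r) t := fun _ => rfl
  conv_lhs => rw [nf_spec hr a, hX, hY]
  simp only [U, SpinCurv.NodeRing.ofX, SpinCurv.NodeRing.ofY, SpinCurv.NodeRing.x, SpinCurv.NodeRing.y, map_add,
    map_sum, map_mul, map_pow, PowerSeries.toMvPowerSeries_C, PowerSeries.toMvPowerSeries_X, hC]
  have hxy : algebraMap R (SpinCurv.NodeRing R r) r =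
      Ideal.Quotient.mk _ (X 0) * Ideal.Quotient.mk _ (X 1) := x_mul_y.symm
  rw [hxy, mul_add, mul_add, Finset.mul_sum]
  refine (add_assoc _ _ _).trans ((congrArg₂ (· + ·) (by ring) (congrArg₂ (· + ·) (Finset.sum_congr rfl fun k hk => ?_) (by ring))).trans (add_assoc _ _ _).symm)
  have hk' := Finset.mem_range.1 hk
  obtain ⟨m, rfl⟩ : ∃ m, n = k + m := ⟨n - k, by omega⟩
  rw [Nat.add_sub_cancel_left]
  ring

variable [IsNoetherianRing R] [UniqueFactorizationMonoid R]

include hr in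
/-- A unit of the generic fibre is `s xⁿ u` or `s yⁿ u`. -/
theorem exists_eq_monomial (hr0 : r ≠ 0) {t : R} (ht : t ≠ 0) (a b : SpinCurv.NodeRing R r)
    (hab : a * b = algebraMap R (SpinCurv.NodeRing R r) t) :
    ∃ (s : R) (n : ℕ) (u : (SpinCurv.NodeRing R r)ˣ),
      a = algebraMap R (SpinCurv.NodeRing R r) s * SpinCurv.NodeRing.x R r ^ n * u ∨
      a = algebraMap R (SpinCurv.NodeRing R r) s * SpinCurv.NodeRing.y R r ^ n * u := by
  have hab' : swap r a * swap r b = algebraMap R (SpinCurv.NodeRing R r) t := by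
    rw [← map_mul, hab, swap_algebraMap]
  choose e he using fun k : ℤ => dvd_lc_mul_lc hr hr0 ht a b hab k (-k)
  obtain ⟨n, hn⟩ := exists_isUnit_term hr e ht a b hab he
  have main : ∀ (a b : SpinCurv.NodeRing R r), a * b = algebraMap R (SpinCurv.NodeRing R r) t → ∀ i j : ℤ,
      lc hr a i * lc hr b j = t * e n → lc hr a i ≠ 0 ∧ ∀ k, lc hr a i ∣ lc hr a k := by
    intro a b hab i j hij
    have hne : lc hr a i * lc hr b j ≠ 0 := hij ▸ mul_ne_zero ht hn.ne_zero
    refine ⟨left_ne_zero_of_mul hne, fun k => ?_⟩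
    rw [← mul_dvd_mul_iff_right (right_ne_zero_of_mul hne), hij, hn.mul_right_dvd]
    exact dvd_lc_mul_lc hr hr0 ht a b hab k j
  have he' : lc hr (swap r a) (-n) * lc hr (swap r b) n = t * e n :=
    (lc_swap_mul_lc_swap hr a b n).trans (he n)
  obtain ⟨h1, h2⟩ := main a b hab n (-n) (he n)
  obtain ⟨h1', h2'⟩ := main _ _ hab' (-n) n he'
  rcases Int.eq_nat_or_neg n with ⟨m, rfl | rfl⟩
  · obtain ⟨u, hu⟩ := eq_of_dvd hr hr0 a m h1 h2 h2'
    exact ⟨_, m, u, Or.inl hu⟩
  · rw [neg_neg] at h1' h2'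
    obtain ⟨u, hu⟩ := eq_of_dvd hr hr0 (swap r a) m h1' h2' (by rw [swap_swap hr]; exact h2)
    refine ⟨lc hr (swap r a) m, m, u.map (swap r).toMonoidHom, Or.inr ?_⟩
    have h3 := congrArg (swap r) hu
    rw [swap_swap hr, map_mul, map_mul, map_pow, swap_algebraMap, swap_x] at h3
    exact h3

end GrothLib.NodeLaurent
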